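import Groth.Agent.H06GRConn.Valuation

/-!
Elements of the total ring of fractions which are sections over the punctured spectrum.
-/

set_option autoImplicit false
set_option backward.isDefEq.respectTransparency false
set_option linter.style.haveILetI false
noncomputable section
universe u
open IsLocalRing Polynomial Groth.Agent.H3CAlg.Mori

namespace Groth.Agent.H06PunctInt

variable {A : Type u} [CommRing A] [IsNoetherianRing A] [IsReduced A]

variable (A) in
abbrev MinPt : Type u := {p : Ideal A // p ∈ minimalPrimes A}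

instance (p : MinPt A) : p.1.IsPrime := p.2.1.1

abbrev Kp (p : MinPt A) : Type u := FractionRing (A ⧸ p.1)

omit [IsNoetherianRing A] [IsReduced A] in
theorem algebraMap_eq_zero_iff (p : MinPt A) (a : A) : algebraMap A (Kp p) a = 0 ↔ a ∈ p.1 := by
  rw [IsScalarTower.algebraMap_apply A (A ⧸ p.1) (Kp p),
    map_eq_zero_iff _ (IsFractionRing.injective (A ⧸ p.1) (Kp p))]
  exact Ideal.Quotient.eq_zero_iff_mem

/-- Restriction to a component. -/
def proj (p : MinPt A) : FractionRing A →ₐ[A] Kp p :=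
  { IsLocalization.lift (M := nonZeroDivisors A) (g := algebraMap A (Kp p)) fun s =>
      isUnit_iff_ne_zero.2 fun h => Ideal.disjoint_nonZeroDivisors_of_mem_minimalPrimes p.2 |>.ne_of_mem
        ((algebraMap_eq_zero_iff p _).1 h) s.2 rfl with
    commutes' := fun a => IsLocalization.lift_eq _ a }

omit [IsNoetherianRing A] in
theorem eq_zero_of_proj {x : FractionRing A} (h : ∀ p, proj p x = 0) : x = 0 := by
  obtain ⟨⟨r, s⟩, hrs⟩ := IsLocalization.surj (nonZeroDivisors A) x
  have hr : r ∈ nilradical A := by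
    rw [nilradical_eq_sInf]
    refine Ideal.mem_sInf.2 fun {P} hP => ?_
    haveI : P.IsPrime := hP
    obtain ⟨p, hp, hpP⟩ := Ideal.exists_minimalPrimes_le (bot_le : (⊥ : Ideal A) ≤ P)
    refine hpP ((algebraMap_eq_zero_iff ⟨p, hp⟩ r).1 ?_)
    rw [← (proj ⟨p, hp⟩).commutes, ← hrs, map_mul, h, zero_mul]
  rw [nilradical_eq_zero, Ideal.zero_eq_bot, Ideal.mem_bot] at hr
  rw [hr, map_zero] at hrs
  exact (IsLocalization.map_units (FractionRing A) s).mul_left_eq_zero.1 hrs

theorem isIntegral_of_proj {x : FractionRing A} (h : ∀ p, IsIntegral A (proj p x)) : IsIntegral A x := by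
  classical
  haveI : Fintype (MinPt A) := (minimalPrimes.finite_of_isNoetherianRing A).fintype
  choose P hP hPx using h
  refine ⟨∏ p, P p, monic_prod_of_monic _ _ fun p _ => hP p, ?_⟩
  refine eq_zero_of_proj fun q => ?_
  show proj q (aeval x (∏ p, P p)) = 0
  rw [← Polynomial.aeval_algHom_apply, map_prod]
  exact Finset.prod_eq_zero (Finset.mem_univ q) (hPx q)

omit [IsNoetherianRing A] [IsReduced A] in
theorem exists_mem_forall_ne [IsNoetherianRing A] (p : MinPt A) :
    ∃ t u : A, t ∉ p.1 ∧ u ∈ p.1 ∧ ∀ q : MinPt A, q ≠ p → t ∈ q.1 ∧ u ∉ q.1 := by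
  classical
  haveI : Fintype (MinPt A) := (minimalPrimes.finite_of_isNoetherianRing A).fintype
  let s := Finset.univ.erase p
  obtain ⟨u, hu, hu'⟩ : ∃ u ∈ p.1, ∀ q ∈ s, u ∉ q.1 := by
    by_contra hh
    push Not at hh
    have : (p.1 : Set A) ⊆ ⋃ q ∈ (s : Set (MinPt A)), (q.1 : Set A) := fun x hx => by
      obtain ⟨q, hq, hxq⟩ := hh x hx
      exact Set.mem_biUnion hq hxq
    obtain ⟨q, hq, hpq⟩ := (Ideal.subset_union_prime p p fun q _ _ _ => q.2.1.1).1 this
    exact (Finset.ne_of_mem_erase hq) (Subtype.ext (le_antisymm (q.2.2 p.2.1 hpq) hpq))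
  have hne : ∀ q ∈ s, ∃ a : A, a ∈ q.1 ∧ a ∉ p.1 := fun q hq => by
    refine SetLike.not_le_iff_exists.1 fun hle => ?_
    exact (Finset.ne_of_mem_erase hq) (Subtype.ext (le_antisymm hle (p.2.2 q.2.1 hle)))
  choose a ha ha' using hne
  refine ⟨∏ q ∈ s.attach, a q.1 q.2, u, fun h => ?_, hu, fun q hq => ⟨?_, hu' q ?_⟩⟩
  · obtain ⟨q, -, hq⟩ := Ideal.IsPrime.prod_mem_iff.1 h
    exact ha' _ _ hq
  · exact q.1.mem_of_dvd (Finset.dvd_prod_of_mem (fun r : {x // x ∈ s} => a r.1 r.2)
      (Finset.mem_attach s ⟨q, Finset.mem_erase.2 ⟨hq, Finset.mem_univ _⟩⟩)) (ha _ _)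
  · exact Finset.mem_erase.2 ⟨hq, Finset.mem_univ _⟩

theorem mem_nonZeroDivisors_of_notMem {b : A} (h : ∀ q : MinPt A, b ∉ q.1) : b ∈ nonZeroDivisors A := by
  refine mem_nonZeroDivisors_iff_right.2 fun x hx => IsFractionRing.injective A (FractionRing A) ?_
  rw [map_zero]
  refine eq_zero_of_proj fun q => ?_
  rw [AlgHom.commutes, algebraMap_eq_zero_iff]
  exact (q.2.1.1.mem_or_mem (hx ▸ q.1.zero_mem)).resolve_right (h q)

theorem exists_lift (p : MinPt A) (c : Kp p) :
    ∃ w : FractionRing A, proj p w = c ∧ ∀ q ≠ p, proj q w = 0 := by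
  obtain ⟨⟨x, ⟨y, hy⟩⟩, hxy⟩ := IsLocalization.surj (nonZeroDivisors (A ⧸ p.1)) c
  obtain ⟨x, rfl⟩ := Ideal.Quotient.mk_surjective x
  obtain ⟨y, rfl⟩ := Ideal.Quotient.mk_surjective y
  have hy' : y ∉ p.1 := fun h => nonZeroDivisors.ne_zero hy (Ideal.Quotient.eq_zero_iff_mem.2 h)
  obtain ⟨t, u, ht, hu, htu⟩ := exists_mem_forall_ne p
  have hb : ∀ q : MinPt A, y * t + u ∉ q.1 := fun q h => by
    by_cases hq : q = p
    · rw [hq] at h
      exact (p.2.1.1.mem_or_mem ((Ideal.add_mem_iff_left _ hu).1 h)).elim hy' ht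
    · exact (htu q hq).2 ((Ideal.add_mem_iff_right _ (Ideal.mul_mem_left _ _ (htu q hq).1)).1 h)
  let b : nonZeroDivisors A := ⟨y * t + u, mem_nonZeroDivisors_of_notMem hb⟩
  refine ⟨IsLocalization.mk' _ (x * t) b, ?_, fun q hq => ?_⟩
  · have key : proj p (IsLocalization.mk' _ (x * t) b) * algebraMap A (Kp p) (y * t + u) =
        algebraMap A (Kp p) (x * t) := by
      rw [← (proj p).commutes, ← map_mul]
      exact (congrArg (proj p) (IsLocalization.mk'_spec _ _ b)).trans ((proj p).commutes _)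
    have hne : algebraMap A (Kp p) (y * t + u) ≠ 0 := fun h => hb p ((algebraMap_eq_zero_iff p _).1 h)
    refine mul_right_cancel₀ hne (key.trans ?_)
    have hu0 : algebraMap A (Kp p) u = 0 := (algebraMap_eq_zero_iff p u).2 hu
    have e : c * algebraMap A (Kp p) y = algebraMap A (Kp p) x := hxy
    rw [map_add, hu0, add_zero, map_mul, map_mul, ← e, mul_assoc]
  · have key : proj q (IsLocalization.mk' _ (x * t) b) * algebraMap A (Kp q) (y * t + u) =
        algebraMap A (Kp q) (x * t) := by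
      rw [← (proj q).commutes, ← map_mul]
      exact (congrArg (proj q) (IsLocalization.mk'_spec _ _ b)).trans ((proj q).commutes _)
    have hne : algebraMap A (Kp q) (y * t + u) ≠ 0 := fun h => hb q ((algebraMap_eq_zero_iff q _).1 h)
    rw [(algebraMap_eq_zero_iff q _).2 (Ideal.mul_mem_left _ _ (htu q hq).1)] at key
    exact (mul_eq_zero.1 key).resolve_right hne

/-- The component of the normalization. -/
def φ (p : MinPt A) : integralClosure A (FractionRing A) →+* integralClosure (A ⧸ p.1) (Kp p) :=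
  RingHom.codRestrict ((proj p).toRingHom.comp (integralClosure A (FractionRing A)).val.toRingHom) _ fun x =>
    (x.2.map (proj p)).tower_top

theorem φ_surjective (p : MinPt A) : Function.Surjective (φ p) := fun c => by
  obtain ⟨w, hw, hw0⟩ := exists_lift p (c : Kp p)
  haveI : Algebra.IsIntegral A (A ⧸ p.1) := Algebra.IsIntegral.of_finite A _
  refine ⟨⟨w, isIntegral_of_proj fun q => ?_⟩, Subtype.ext hw⟩
  by_cases hq : q = p
  · subst hq; rw [hw]; exact isIntegral_trans _ c.2
  · rw [hw0 q hq]; exact isIntegral_zero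

theorem ker_φ_le (p : MinPt A) (m' : Ideal (integralClosure A (FractionRing A))) [m'.IsPrime]
    (hm' : RingHom.ker (φ p) ≤ m') (q : Ideal (integralClosure A (FractionRing A))) [q.IsPrime] (hq : q ≤ m') :
    RingHom.ker (φ p) ≤ q := fun a ha => by
  obtain ⟨w, hw, hw0⟩ := exists_lift p 1
  have hwi : IsIntegral A w := isIntegral_of_proj fun r => by
    by_cases hr : r = p
    · subst hr; rw [hw]; exact isIntegral_one
    · rw [hw0 r hr]; exact isIntegral_zero
  let e : integralClosure A (FractionRing A) := ⟨w, hwi⟩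
  have hae : a * e = 0 := Subtype.ext (eq_zero_of_proj fun r => by
    show proj r (a.1 * w) = 0
    rw [map_mul]
    by_cases hr : r = p
    · subst hr
      rw [show proj r a.1 = 0 from congrArg Subtype.val (RingHom.mem_ker.1 ha), zero_mul]
    · rw [hw0 r hr, mul_zero])
  have he : e ∉ q := fun h => by
    have h1 : (1 : integralClosure A (FractionRing A)) - e ∈ m' := hm' (RingHom.mem_ker.2 (Subtype.ext (by
      show proj p (1 - w) = 0
      rw [map_sub, map_one, hw, sub_self])))
    exact ‹m'.IsPrime›.ne_top ((Ideal.eq_top_iff_one _).2 (by simpa using Ideal.add_mem _ h1 (hq h)))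
  exact (‹q.IsPrime›.mem_or_mem (hae ▸ q.zero_mem)).resolve_right he

variable [IsLocalRing A]

theorem exists_prime_lt
    (hdim : ∀ (m' : Ideal ↥(integralClosure A (FractionRing A))) [m'.IsMaximal],
      m'.comap (algebraMap A ↥(integralClosure A (FractionRing A))) = IsLocalRing.maximalIdeal A →
        2 ≤ ringKrullDim (Localization.AtPrime m'))
    (p : MinPt A) (P : Ideal (integralClosure (A ⧸ p.1) (Kp p))) [P.IsPrime]
    (hP : P.comap ((algebraMap (A ⧸ p.1) _).comp (Ideal.Quotient.mk p.1)) = maximalIdeal A) :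
    ∃ Q : Ideal (integralClosure (A ⧸ p.1) (Kp p)), Q.IsPrime ∧ Q ≠ ⊥ ∧ Q < P := by
  let A' := integralClosure A (FractionRing A)
  let m' := P.comap (φ p)
  have hcomp : (φ p).comp (algebraMap A A') = (algebraMap (A ⧸ p.1) _).comp (Ideal.Quotient.mk p.1) :=
    RingHom.ext fun a => Subtype.ext ((proj p).commutes a)
  have hm'A : m'.comap (algebraMap A A') = maximalIdeal A := by rw [Ideal.comap_comap, hcomp, hP]
  haveI : Algebra.IsIntegral A A' := integralClosure.AlgebraIsIntegral
  haveI : m'.IsMaximal := Ideal.isMaximal_of_isIntegral_of_isMaximal_comap (R := A) m'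
    (hm'A.symm ▸ maximalIdeal.isMaximal A)
  obtain ⟨l, hl⟩ := (Order.le_krullDim_iff (n := 2)).1 (hdim m' hm'A)
  let M := Localization.AtPrime m'
  let c := fun i => (l i).asIdeal.comap (algebraMap A' M)
  have hc : StrictMono c := fun i j hij => by
    refine lt_of_le_of_ne (Ideal.comap_mono (le_of_lt (l.strictMono hij))) fun e => ?_
    exact (l.strictMono hij).ne (PrimeSpectrum.localization_comap_injective M m'.primeCompl (PrimeSpectrum.ext e))
  haveI hcp : ∀ i, (c i).IsPrime := fun i => Ideal.IsPrime.comap _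
  have hcm : ∀ i, c i ≤ m' := fun i => by
    refine le_trans (Ideal.comap_mono (le_maximalIdeal (l i).2.ne_top)) (le_of_eq ?_)
    exact IsLocalization.AtPrime.comap_maximalIdeal M m'
  have hker : ∀ i, RingHom.ker (φ p) ≤ c i := fun i =>
    ker_φ_le p m' (Ideal.comap_mono bot_le) (c i) (hcm i)
  have hmap : ∀ i, (Ideal.map (φ p) (c i)).comap (φ p) = c i := fun i => by
    rw [Ideal.comap_map_of_surjective' _ (φ_surjective p), sup_eq_left]
    exact hker i
  refine ⟨(c ⟨1, by omega⟩).map (φ p), Ideal.map_isPrime_of_surjective (φ_surjective p) (hker _), fun h => ?_, ?_⟩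
  · have h1 : c ⟨0, by omega⟩ < c ⟨1, by omega⟩ := hc (Fin.mk_lt_mk.2 one_pos)
    rw [← hmap ⟨1, by omega⟩, h, ← RingHom.ker_eq_comap_bot] at h1
    exact h1.not_ge (hker _)
  · have h1 : c ⟨1, by omega⟩ < m' := (hc (Fin.mk_lt_mk.2 one_lt_two) : c ⟨1, by omega⟩ < c ⟨2, by omega⟩).trans_le (hcm _)
    refine lt_of_le_of_ne (Ideal.map_le_iff_le_comap.2 h1.le) fun e => h1.ne ?_
    rw [← hmap ⟨1, by omega⟩, e]

theorem exists_nonZeroDivisor_mem
    (hdim : ∀ (m' : Ideal ↥(integralClosure A (FractionRing A))) [m'.IsMaximal],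
      m'.comap (algebraMap A ↥(integralClosure A (FractionRing A))) = IsLocalRing.maximalIdeal A →
        2 ≤ ringKrullDim (Localization.AtPrime m')) :
    ∃ f ∈ maximalIdeal A, f ∈ nonZeroDivisors A := by
  classical
  haveI : Fintype (MinPt A) := (minimalPrimes.finite_of_isNoetherianRing A).fintype
  by_contra hh
  push Not at hh
  have hcover : (maximalIdeal A : Set A) ⊆ ⋃ q ∈ (↑(Finset.univ : Finset (MinPt A)) : Set (MinPt A)), (q.1 : Set A) := fun x hx => by
    by_contra hxu
    simp only [Finset.coe_univ, Set.mem_univ, Set.iUnion_true, Set.mem_iUnion, not_exists] at hxu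
    exact hh x hx (mem_nonZeroDivisors_of_notMem hxu)
  haveI : Nonempty (MinPt A) := by
    obtain ⟨p, hp, -⟩ := Ideal.exists_minimalPrimes_le (bot_le : (⊥ : Ideal A) ≤ maximalIdeal A)
    exact ⟨⟨p, hp⟩⟩
  obtain ⟨p, -, hp⟩ := (Ideal.subset_union_prime_finite (f := fun q : MinPt A => q.1) (Finset.univ : Finset (MinPt A)).finite_toSet
    (Classical.arbitrary _) (Classical.arbitrary _) fun q _ _ _ => q.2.1.1).1 hcover
  haveI : (⊥ : Ideal (integralClosure (A ⧸ p.1) (Kp p))).IsPrime := Ideal.isPrime_bot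
  obtain ⟨Q, -, hQ, hQlt⟩ := exists_prime_lt hdim p ⊥ (by
    refine le_antisymm (le_maximalIdeal (Ideal.comap_ne_top _ (Ideal.isPrime_bot).ne_top)) fun a ha => ?_
    rw [Ideal.mem_comap, Ideal.mem_bot]
    show algebraMap (A ⧸ p.1) _ (Ideal.Quotient.mk p.1 a) = 0
    rw [Ideal.Quotient.eq_zero_iff_mem.2 (hp ha), map_zero])
  exact hQ (le_bot_iff.1 hQlt.le)

/-- An element which is locally a section over the punctured spectrum is integral. -/
theorem isIntegral_of_locally
    (hdim : ∀ (m' : Ideal ↥(integralClosure A (FractionRing A))) [m'.IsMaximal],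
      m'.comap (algebraMap A ↥(integralClosure A (FractionRing A))) = IsLocalRing.maximalIdeal A →
        2 ≤ ringKrullDim (Localization.AtPrime m'))
    (z : FractionRing A)
    (hz : ∀ g ∈ maximalIdeal A, ∃ (N : ℕ) (a : A), algebraMap A (FractionRing A) (g ^ N) * z =
      algebraMap A (FractionRing A) a) : IsIntegral A z := by
  refine isIntegral_of_proj fun p => ?_
  haveI : IsLocalRing (A ⧸ p.1) := IsLocalRing.of_surjective' _ Ideal.Quotient.mk_surjective
  obtain ⟨ι, val, hval⟩ := H06GRConn.exists_krull_family (A ⧸ p.1) (Kp p)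
  haveI : Algebra.IsIntegral A (A ⧸ p.1) := Algebra.IsIntegral.of_finite A _
  refine isIntegral_trans (A := A ⧸ p.1) _ (hval.mem_of_minimal fun i hi0 himin => ?_)
  haveI := hval.cen_isPrime i
  let θ := (algebraMap (A ⧸ p.1) (integralClosure (A ⧸ p.1) (Kp p))).comp (Ideal.Quotient.mk p.1)
  by_cases hP : (hval.cen i).comap θ = maximalIdeal A
  · obtain ⟨Q, hQp, hQ0, hQlt⟩ := exists_prime_lt hdim p (hval.cen i) hP
    exact absurd (himin Q hQp hQ0 hQlt.le) hQlt.ne
  obtain ⟨g, hgm, hg⟩ : ∃ g ∈ maximalIdeal A, g ∉ (hval.cen i).comap θ :=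
    SetLike.not_le_iff_exists.1 fun hle => hP (le_antisymm
      (le_maximalIdeal (Ideal.comap_ne_top _ (hval.cen_isPrime i).ne_top)) hle)
  have hg1 : val i (algebraMap A (Kp p) g) = 1 := hval.notMem_cen.1 hg
  obtain ⟨N, a, hNa⟩ := hz g hgm
  have h1 := congrArg (fun y => val i (proj p y)) hNa
  simp only [map_mul, map_pow, AlgHom.commutes, hg1, one_pow, one_mul] at h1
  rw [h1]
  exact hval.le_one i (θ a)

end Groth.Agent.H06PunctInt
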