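import Groth.Agent.H06PunctInt.Algebra
import Groth.Prelude.Def_FEt

/-!
Sections over the punctured spectrum of a reduced ring inside the normalization.
-/

set_option autoImplicit false
set_option backward.isDefEq.respectTransparency false
set_option linter.style.haveILetI false
noncomputable section
universe u
open AlgebraicGeometry CategoryTheory IsLocalRing TopologicalSpace Opposite

namespace Groth.Agent.H06PunctInt

theorem sections_integral (A : Type u) [CommRing A] [IsNoetherianRing A] [IsLocalRing A] [_root_.IsReduced A]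
    (hdim : ∀ (m' : Ideal ↥(integralClosure A (FractionRing A))) [m'.IsMaximal],
      m'.comap (algebraMap A ↥(integralClosure A (FractionRing A))) = IsLocalRing.maximalIdeal A →
        2 ≤ ringKrullDim (Localization.AtPrime m')) :
    (((Spec (CommRingCat.of A)).presheaf.map (homOfLE (le_top : FEt.puncturedSpec A ≤ ⊤)).op).hom.comp
        (Scheme.ΓSpecIso (CommRingCat.of A)).inv.hom).IsIntegral ∧
      ∃ φ : ↑((Spec (CommRingCat.of A)).presheaf.obj (op (FEt.puncturedSpec A))) →+* ↥(integralClosure A (FractionRing A)),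
        Function.Injective φ ∧
          φ.comp (((Spec (CommRingCat.of A)).presheaf.map (homOfLE (le_top : FEt.puncturedSpec A ≤ ⊤)).op).hom.comp
            (Scheme.ΓSpecIso (CommRingCat.of A)).inv.hom) = algebraMap A ↥(integralClosure A (FractionRing A)) := by
  let X := Spec (CommRingCat.of A)
  let U : X.Opens := FEt.puncturedSpec A
  let c : A →+* Γ(X, ⊤) := (Scheme.ΓSpecIso (CommRingCat.of A)).inv.hom
  let d : Γ(X, ⊤) →+* A := (Scheme.ΓSpecIso (CommRingCat.of A)).hom.hom
  have hdc : ∀ a, d (c a) = a := fun a => (Scheme.ΓSpecIso (CommRingCat.of A)).commRingCatIsoToRingEquiv.apply_symm_apply a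
  have hcd : ∀ a, c (d a) = a := fun a => (Scheme.ΓSpecIso (CommRingCat.of A)).commRingCatIsoToRingEquiv.symm_apply_apply a
  let ρ : A →+* Γ(X, U) := (X.presheaf.map (homOfLE (le_top : U ≤ ⊤)).op).hom.comp c
  have hD : ∀ g ∈ maximalIdeal A, X.basicOpen (c g) ≤ U := fun g hg x hx hxe => by
    rw [Set.mem_singleton_iff] at hxe
    change x ∈ (Spec (CommRingCat.of A)).basicOpen _ at hx
    rw [basicOpen_eq_of_affine] at hx
    exact hx (hxe ▸ hg)
  have hcover : ∀ x ∈ U, ∃ g ∈ maximalIdeal A, x ∈ X.basicOpen (c g) := fun x hx => by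
    obtain ⟨g, hg, hgx⟩ : ∃ g ∈ maximalIdeal A, g ∉ (x : PrimeSpectrum A).asIdeal :=
      SetLike.not_le_iff_exists.1 fun hle => hx (PrimeSpectrum.ext (le_antisymm (le_maximalIdeal (x : PrimeSpectrum A).2.ne_top) hle))
    refine ⟨g, hg, ?_⟩
    show x ∈ (Spec (CommRingCat.of A)).basicOpen _
    rw [basicOpen_eq_of_affine]
    exact hgx
  let alg : ∀ g : A, Algebra A Γ(X, X.basicOpen (c g)) := fun g =>
    ((X.presheaf.map (homOfLE (le_top : X.basicOpen (c g) ≤ ⊤)).op).hom.comp c).toAlgebra
  have hloc : ∀ g : A, @IsLocalization A _ (Submonoid.powers g) Γ(X, X.basicOpen (c g)) _ (alg g) := fun g => by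
    letI := alg g
    haveI : IsLocalization.Away (c g) Γ(X, X.basicOpen (c g)) :=
      (isAffineOpen_top X).isLocalization_basicOpen (c g)
    have := IsLocalization.isLocalization_of_base_ringEquiv (Submonoid.powers (c g)) Γ(X, X.basicOpen (c g))
      (Scheme.ΓSpecIso (CommRingCat.of A)).commRingCatIsoToRingEquiv
    rw [Submonoid.map_powers] at this
    convert this using 2
    all_goals first
      | exact (hdc g).symm
      | exact RingHom.ext fun a => rfl
  let ν : A →+* FractionRing A := algebraMap A (FractionRing A)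
  obtain ⟨f, hfm, hf⟩ := exists_nonZeroDivisor_mem hdim
  letI := alg f
  haveI : IsLocalization.Away f Γ(X, X.basicOpen (c f)) := hloc f
  let L : Γ(X, X.basicOpen (c f)) →+* FractionRing A :=
    IsLocalization.Away.lift f (g := ν) (IsLocalization.map_units (FractionRing A) ⟨f, hf⟩)
  let θ : Γ(X, U) →+* FractionRing A := L.comp (X.presheaf.map (homOfLE (hD f hfm)).op).hom
  have hθρ : ∀ a, θ (ρ a) = ν a := fun a => by
    show L ((X.presheaf.map (homOfLE (le_top : U ≤ ⊤)).op ≫ X.presheaf.map (homOfLE (hD f hfm)).op).hom (c a)) = ν a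
    rw [← X.presheaf.map_comp]
    exact IsLocalization.Away.lift_eq f _ a
  have key : ∀ (s : Γ(X, U)) (g : A) (hg : g ∈ maximalIdeal A), ∃ (N : ℕ) (a : A),
      (X.presheaf.map (homOfLE (hD g hg)).op) (ρ (g ^ N) * s - ρ a) = 0 := fun s g hg => by
    letI := alg g
    haveI : IsLocalization.Away g Γ(X, X.basicOpen (c g)) := hloc g
    obtain ⟨⟨a, ⟨_, N, rfl⟩⟩, ha⟩ :=
      IsLocalization.surj (Submonoid.powers g) ((X.presheaf.map (homOfLE (hD g hg)).op) s)
    refine ⟨N, a, ?_⟩
    have hr : ∀ b, (X.presheaf.map (homOfLE (hD g hg)).op) (ρ b) = algebraMap A Γ(X, X.basicOpen (c g)) b := fun b => by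
      show (X.presheaf.map (homOfLE (le_top : U ≤ ⊤)).op ≫ X.presheaf.map (homOfLE (hD g hg)).op).hom (c b) = _
      rw [← X.presheaf.map_comp]
      rfl
    rw [map_sub, map_mul, hr, hr, sub_eq_zero, mul_comm]
    exact ha
  have hzero : ∀ (g : A) (hg : g ∈ maximalIdeal A) (t : Γ(X, U)), (X.presheaf.map (homOfLE (hD g hg)).op) t = 0 →
      ∃ k, ν (g ^ k) * θ t = 0 := fun g hg t ht => by
    obtain ⟨⟨b, ⟨_, n, rfl⟩⟩, hb⟩ :=
      IsLocalization.surj (Submonoid.powers f) ((X.presheaf.map (homOfLE (hD f hfm)).op) t)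
    have hle : X.basicOpen (c (f * g)) ≤ X.basicOpen (c f) := by rw [map_mul, Scheme.basicOpen_mul]; exact inf_le_left
    have hle' : X.basicOpen (c (f * g)) ≤ X.basicOpen (c g) := by rw [map_mul, Scheme.basicOpen_mul]; exact inf_le_right
    have h0 : (X.presheaf.map (homOfLE hle).op) ((X.presheaf.map (homOfLE (hD f hfm)).op) t) = 0 := by
      show (X.presheaf.map (homOfLE (hD f hfm)).op ≫ X.presheaf.map (homOfLE hle).op).hom t = 0
      rw [← X.presheaf.map_comp, show (homOfLE (hD f hfm)).op ≫ (homOfLE hle).op =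
        (homOfLE (hD g hg)).op ≫ (homOfLE hle').op from rfl, X.presheaf.map_comp, CommRingCat.comp_apply, ht, map_zero]
    have h1 := congrArg (X.presheaf.map (homOfLE hle).op) hb
    replace h1 := h1.symm.trans ((map_mul _ _ _).trans (by rw [h0, zero_mul]))
    letI := alg (f * g)
    haveI : IsLocalization.Away (f * g) Γ(X, X.basicOpen (c (f * g))) := hloc (f * g)
    have h2 : algebraMap A Γ(X, X.basicOpen (c (f * g))) b = 0 := by
      refine Eq.trans ?_ h1
      show _ = (X.presheaf.map (homOfLE le_top).op ≫ X.presheaf.map (homOfLE hle).op).hom (c b)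
      rw [← X.presheaf.map_comp]
      rfl
    obtain ⟨⟨_, k, rfl⟩, hk⟩ := (IsLocalization.map_eq_zero_iff (Submonoid.powers (f * g)) _ b).1 h2
    refine ⟨k, ?_⟩
    have h3 : θ t * ν (f ^ n) = ν b := by
      have := congrArg L hb
      rw [map_mul, IsLocalization.Away.lift_eq, IsLocalization.Away.lift_eq] at this
      exact this
    have h4 : ν (f ^ k) * ν (f ^ n) * (ν (g ^ k) * θ t) = 0 := by
      have h5 : ν ((f * g) ^ k) * ν b = 0 := by rw [← map_mul]; exact (congrArg ν hk).trans (map_zero ν)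
      rw [mul_pow, map_mul] at h5
      linear_combination h5 + ν (f ^ k) * ν (g ^ k) * h3
    exact ((IsLocalization.map_units (FractionRing A) (⟨f, hf⟩ ^ k : nonZeroDivisors A)).mul
      (IsLocalization.map_units (FractionRing A) (⟨f, hf⟩ ^ n : nonZeroDivisors A))).mul_right_eq_zero.1 h4
  have hint : ∀ s, IsIntegral A (θ s) := fun s => isIntegral_of_locally hdim (θ s) fun g hg => by
    obtain ⟨N, a, h⟩ := key s g hg
    obtain ⟨k, hk⟩ := hzero g hg _ h
    refine ⟨k + N, g ^ k * a, ?_⟩
    rw [map_sub, map_mul, hθρ, hθρ] at hk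
    show ν (g ^ (k + N)) * θ s = ν (g ^ k * a)
    rw [pow_add, map_mul, map_mul]
    linear_combination hk
  have hinj : Function.Injective θ := (injective_iff_map_eq_zero θ).2 fun s hs => by
    let I : Type u := {g : A // g ∈ maximalIdeal A}
    refine TopCat.Sheaf.eq_of_locally_eq' X.sheaf (fun g : I => X.basicOpen (c g.1)) U
      (fun g => homOfLE (hD g.1 g.2)) (fun x hx => ?_) s 0 fun g => ?_
    · obtain ⟨g, hg, hgx⟩ := hcover x hx
      exact Opens.mem_iSup.2 ⟨⟨g, hg⟩, hgx⟩
    obtain ⟨N, a, h⟩ := key s g.1 g.2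
    obtain ⟨k, hk⟩ := hzero g.1 g.2 _ h
    rw [map_sub, map_mul, hθρ, hθρ, hs, mul_zero, zero_sub, mul_neg, neg_eq_zero, ← map_mul] at hk
    have ha : g.1 ^ k * a = 0 := IsFractionRing.injective A (FractionRing A) (hk.trans (map_zero _).symm)
    letI := alg g.1
    haveI : IsLocalization.Away g.1 Γ(X, X.basicOpen (c g.1)) := hloc g.1
    have hr : ∀ b, (X.presheaf.map (homOfLE (hD g.1 g.2)).op) (ρ b) = algebraMap A Γ(X, X.basicOpen (c g.1)) b := fun b => by
      show (X.presheaf.map (homOfLE (le_top : U ≤ ⊤)).op ≫ X.presheaf.map (homOfLE (hD g.1 g.2)).op).hom (c b) = _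
      rw [← X.presheaf.map_comp]
      rfl
    have hu : ∀ n, IsUnit (algebraMap A Γ(X, X.basicOpen (c g.1)) (g.1 ^ n)) := fun n => by
      rw [map_pow]; exact (IsLocalization.Away.algebraMap_isUnit g.1).pow n
    have ha' : algebraMap A Γ(X, X.basicOpen (c g.1)) a = 0 := (hu k).mul_right_eq_zero.1 (by
      rw [← map_mul, ha, map_zero])
    rw [map_sub, map_mul, hr, hr, ha', sub_zero] at h
    show (X.presheaf.map (homOfLE (hD g.1 g.2)).op) s = (X.presheaf.map (homOfLE (hD g.1 g.2)).op) 0
    rw [map_zero]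
    exact (hu N).mul_right_eq_zero.1 h
  refine ⟨fun s => ?_, θ.codRestrict _ hint, fun a b h => hinj (congrArg Subtype.val h), RingHom.ext fun a => Subtype.ext (hθρ a)⟩
  obtain ⟨P, hP, hPs⟩ := hint s
  refine ⟨P, hP, hinj ?_⟩
  rw [Polynomial.hom_eval₂, map_zero, show θ.comp _ = ν from RingHom.ext hθρ]
  exact hPs

end Groth.Agent.H06PunctInt
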